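import Mathlib.Algebra.Module.PID
import Mathlib.Algebra.Polynomial.Module.AEval
import Mathlib.LinearAlgebra.Matrix.Charpoly.LinearMap
import Mathlib.LinearAlgebra.Matrix.ToLin
import Mathlib.RingTheory.Ideal.Quotient.Operations
import Mathlib.RingTheory.PrincipalIdealDomain
import Mathlib.LinearAlgebra.Matrix.NonsingularInverse
import Mathlib.FieldTheory.Minpoly.Field
import Mathlib.RingTheory.IntegralClosure.IsIntegralClosure.Basic
import Mathlib.FieldTheory.Finiteness

/-!
# Regular matrices have cyclic vectors
-/

open Polynomial DirectSum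

universe u

namespace Groth.Agent.RegMat28

variable {K : Type u} [Field K] {V : Type u} [AddCommGroup V] [Module K V] [Module.Finite K V]

/-- If the commutant is not bigger than the space, some vector is cyclic. -/
theorem exists_cyclic (φ : Module.End K V)
    (h : Module.finrank K (Subalgebra.centralizer K ({φ} : Set (Module.End K V))) ≤ Module.finrank K V) :
    ∃ v : V, ∀ w : V, ∃ q : K[X], w = Polynomial.aeval φ q v := by
  classical
  let M := Module.AEval' φ
  have htors : Module.IsTorsion K[X] M := by
    intro m
    refine ⟨⟨minpoly K φ, mem_nonZeroDivisors_of_ne_zero (minpoly.ne_zero (Algebra.IsIntegral.isIntegral φ))⟩, ?_⟩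
    obtain ⟨v, rfl⟩ := (Module.AEval'.of φ).surjective m
    show minpoly K φ • Module.AEval'.of φ v = 0
    rw [show Module.AEval'.of φ = Module.AEval.of K V φ from rfl, ← Module.AEval.of_aeval_smul, minpoly.aeval]
    simp
  obtain ⟨ι, _, p, hp, e, ⟨E₀⟩⟩ := Module.equiv_directSum_of_isTorsion (R := K[X]) (M := M) htors
  let Q : ι → Type u := fun i => K[X] ⧸ (K[X] ∙ p i ^ e i)
  let E : M ≃ₗ[K[X]] (∀ i, Q i) := E₀.trans (DirectSum.linearEquivFunOnFintype K[X] ι Q)
  have hact : ∀ (q : K[X]) (v : V), q • Module.AEval'.of φ v = Module.AEval'.of φ (Polynomial.aeval φ q v) :=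
    fun q v => (Module.AEval.of_aeval_smul (R := K) (M := V) φ q v).symm
  by_cases hcop : Pairwise fun i j => IsCoprime (K[X] ∙ p i ^ e i : Ideal K[X]) (K[X] ∙ p j ^ e j)
  · let one : ∀ i, Q i := fun i => Submodule.Quotient.mk 1
    refine ⟨(Module.AEval'.of φ).symm (E.symm one), fun w => ?_⟩
    choose x hx using fun i => Submodule.Quotient.mk_surjective _ (E (Module.AEval'.of φ w) i)
    obtain ⟨q, hq⟩ := Ideal.exists_forall_sub_mem_ideal hcop x
    refine ⟨q, (Module.AEval'.of φ).injective (E.injective ?_)⟩
    rw [← hact, map_smul, LinearEquiv.apply_symm_apply, LinearEquiv.apply_symm_apply]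
    funext i
    rw [Pi.smul_apply, ← hx i]
    show Submodule.Quotient.mk (x i) = q • Submodule.Quotient.mk (1 : K[X])
    rw [← Submodule.Quotient.mk_smul, smul_eq_mul, mul_one, Submodule.Quotient.eq]
    have h' := hq i
    rw [← neg_sub]
    exact neg_mem h'
  · exfalso
    simp only [Pairwise, not_forall] at hcop
    obtain ⟨i, j, hij, hnc⟩ := hcop
    have hcases : ∀ i, 0 < e i ∨ (K[X] ∙ p i ^ e i : Ideal K[X]) = ⊤ := fun i => by
      rcases Nat.eq_zero_or_pos (e i) with h0 | h0
      · right; rw [h0, pow_zero]; exact Ideal.span_singleton_one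
      · exact Or.inl h0
    have hei : 0 < e i := (hcases i).resolve_right fun h => hnc (by rw [h]; exact Ideal.isCoprime_iff_sup_eq.2 (top_sup_eq _))
    have hej : 0 < e j := (hcases j).resolve_right fun h => hnc (by rw [h]; exact Ideal.isCoprime_iff_sup_eq.2 (sup_top_eq _))
    have hass : Associated (p i) (p j) := by
      by_contra hna
      refine hnc ?_
      rw [Ideal.isCoprime_span_singleton_iff]
      refine IsCoprime.pow ((hp i).coprime_iff_not_dvd.2 fun hd => hna ?_)
      exact (hp i).associated_of_dvd (hp j) hd
    -- a nonzero map between two summands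
    obtain ⟨i, j, hij, hej, hle⟩ : ∃ i j, i ≠ j ∧ 0 < e j ∧ (K[X] ∙ p i ^ e i) ≤ (K[X] ∙ p j ^ e j) := by
      rcases le_total (e j) (e i) with hl | hl
      · exact ⟨i, j, hij, hej, Ideal.span_singleton_le_span_singleton.2
          ((pow_dvd_pow_of_dvd hass.dvd' (e j)).trans (pow_dvd_pow _ hl))⟩
      · exact ⟨j, i, hij.symm, hei, Ideal.span_singleton_le_span_singleton.2
          ((pow_dvd_pow_of_dvd hass.dvd (e i)).trans (pow_dvd_pow _ hl))⟩
    let R := Subalgebra.centralizer K ({φ} : Set (Module.End K V))
    let ev : (∀ i, Q i) →ₗ[K[X]] Q j :=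
      (Submodule.factor hle).comp (LinearMap.proj (φ := Q) i)
    let N : (∀ i, Q i) →ₗ[K[X]] (∀ i, Q i) := (LinearMap.single K[X] Q j).comp ev
    have hdiag : ∀ (a : ∀ i, Q i), ∃ L : (∀ i, Q i) →ₗ[K[X]] (∀ i, Q i), ∀ z i, L z i =
        (show K[X] ⧸ (K[X] ∙ p i ^ e i : Ideal K[X]) from a i) * (show K[X] ⧸ (K[X] ∙ p i ^ e i : Ideal K[X]) from z i) := by
      intro a
      exact ⟨LinearMap.pi fun i => (LinearMap.mulLeft K[X]
        (show K[X] ⧸ (K[X] ∙ p i ^ e i : Ideal K[X]) from a i)).comp (LinearMap.proj i), fun z i => rfl⟩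
    choose L hL using hdiag
    let G : (∀ i, Q i) × K → M →ₗ[K[X]] M := fun ac =>
      E.symm.toLinearMap ∘ₗ (L ac.1 + ac.2 • N) ∘ₗ E.toLinearMap
    let T : (∀ i, Q i) × K → Module.End K V := fun ac =>
      (Module.AEval'.of φ).symm.toLinearMap ∘ₗ (G ac).restrictScalars K ∘ₗ (Module.AEval'.of φ).toLinearMap
    have hT : ∀ ac, T ac ∈ R := by
      intro ac
      rw [Subalgebra.mem_centralizer_iff]
      intro g hg
      rw [Set.mem_singleton_iff] at hg
      rw [hg]
      refine LinearMap.ext fun v => (Module.AEval'.of φ).injective ?_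
      simp only [T, Module.End.mul_apply, LinearMap.comp_apply, LinearEquiv.coe_coe, LinearMap.restrictScalars_apply,
        LinearEquiv.apply_symm_apply]
      rw [← Module.AEval'.X_smul_of, LinearEquiv.apply_symm_apply, ← map_smul, Module.AEval'.X_smul_of]
    let Φ : (∀ i, Q i) × K →ₗ[K] R :=
      { toFun := fun ac => ⟨T ac, hT ac⟩
        map_add' := fun x y => Subtype.ext (LinearMap.ext fun v => (Module.AEval'.of φ).injective (E.injective (by
          funext t
          simp only [T, G, Subalgebra.coe_add, LinearMap.add_apply, LinearMap.comp_apply, LinearEquiv.coe_coe,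
            LinearMap.restrictScalars_apply, LinearEquiv.apply_symm_apply, map_add, Pi.add_apply, hL, Prod.fst_add,
            Prod.snd_add, LinearMap.smul_apply, Pi.smul_apply, add_smul]
          simp only [add_mul]
          abel)))
        map_smul' := fun c x => Subtype.ext (LinearMap.ext fun v => by
          have hGs : (E.symm.toLinearMap ∘ₗ (L (c • x).1 + (c • x).2 • N) ∘ₗ E.toLinearMap) =
              c • (E.symm.toLinearMap ∘ₗ (L x.1 + x.2 • N) ∘ₗ E.toLinearMap) := by
            have hL' : L (c • x).1 = c • L x.1 := LinearMap.ext fun z => funext fun t => by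
              rw [hL, LinearMap.smul_apply, Pi.smul_apply, hL]
              exact smul_mul_assoc c _ _
            rw [hL', Prod.smul_snd, smul_assoc, ← smul_add, LinearMap.smul_comp, LinearMap.comp_smul]
          simp only [T, G, hGs, SetLike.val_smul, LinearMap.smul_apply, LinearMap.comp_apply, LinearEquiv.coe_coe,
            LinearMap.restrictScalars_apply, map_smul, RingHom.id_apply]) }
    have hΦ : Function.Injective Φ := by
      rw [injective_iff_map_eq_zero]
      rintro ⟨a, c⟩ h0
      have hz : ∀ z, (L a + c • N) z = 0 := by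
        intro z
        have := congrArg (fun r : R => E (Module.AEval'.of φ ((r : Module.End K V) ((Module.AEval'.of φ).symm (E.symm z))))) h0
        simpa [Φ, T, G] using this
      have hN : ∀ z t, N z t = if h : t = j then h ▸ ev z else 0 := by
        intro z t
        by_cases h : t = j
        · subst h
          rw [dif_pos rfl]
          simp [N]
        · rw [dif_neg h]
          exact Pi.single_eq_of_ne h _
      have ha : ∀ t, t ≠ j → a t = 0 := by
        intro t ht
        have := congrFun (hz (Pi.single t (Submodule.Quotient.mk 1))) t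
        rw [LinearMap.add_apply, LinearMap.smul_apply, Pi.add_apply, Pi.smul_apply, hN, dif_neg ht, smul_zero,
          add_zero, hL, Pi.single_eq_same] at this
        exact (mul_one (show K[X] ⧸ (K[X] ∙ p t ^ e t : Ideal K[X]) from a t)).symm.trans this
      have haj : a j = 0 := by
        have := congrFun (hz (Pi.single j (Submodule.Quotient.mk 1))) j
        rw [LinearMap.add_apply, LinearMap.smul_apply, Pi.add_apply, Pi.smul_apply, hN, dif_pos rfl, hL,
          Pi.single_eq_same] at this
        have hev : ev (Pi.single j (Submodule.Quotient.mk 1)) = 0 := by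
          simp [ev, hij]
        rw [hev, smul_zero, add_zero] at this
        exact (mul_one (show K[X] ⧸ (K[X] ∙ p j ^ e j : Ideal K[X]) from a j)).symm.trans this
      have ha0 : a = 0 := funext fun t => if h : t = j then h ▸ haj else ha t h
      subst ha0
      have hc : c = 0 := by
        by_contra hc
        have := congrFun (hz (Pi.single i (Submodule.Quotient.mk 1))) j
        rw [LinearMap.add_apply, LinearMap.smul_apply, Pi.add_apply, Pi.smul_apply, hN, dif_pos rfl, hL,
          Pi.zero_apply] at this
        simp only [ev, LinearMap.comp_apply, LinearMap.proj_apply, Pi.single_eq_same] at this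
        erw [zero_mul, zero_add, Submodule.factor_mk, ← algebraMap_smul K[X] c, ← Submodule.Quotient.mk_smul, Submodule.Quotient.mk_eq_zero,
          Ideal.mem_span_singleton, smul_eq_mul, mul_one, Polynomial.algebraMap_eq] at this
        have hu : IsUnit (p j ^ e j) := isUnit_of_dvd_unit this (Polynomial.isUnit_C.2 (Ne.isUnit hc))
        exact (hp j).not_isUnit ((isUnit_pow_iff hej.ne').1 hu)
      subst hc
      rfl
    haveI : Module.Finite K (∀ i, Q i) :=
      Module.Finite.equiv ((Module.AEval'.of φ).trans (E.restrictScalars K))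
    have hdim := LinearMap.finrank_le_finrank_of_injective hΦ
    rw [Module.finrank_prod, Module.finrank_self, ← ((Module.AEval'.of φ).trans (E.restrictScalars K)).finrank_eq] at hdim
    exact absurd (hdim.trans h) (by omega)

end Groth.Agent.RegMat28
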