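import Groth.Agent.Lib.RegMat28.Cyclic
import Mathlib.LinearAlgebra.Matrix.Charpoly.Basic
import Mathlib.LinearAlgebra.Matrix.ToLinearEquiv
import Mathlib.LinearAlgebra.FiniteDimensional.Basic
import Mathlib.RingTheory.Ideal.Maximal
import Mathlib.Algebra.Algebra.Subalgebra.Tower

/-!
# Commutants of fibrewise regular matrices
-/

open Matrix Polynomial

universe u

namespace Groth.Agent.RegMat28

variable {n : ℕ}

/-- The matrix whose columns are the iterates of a vector. -/
def cyc {B : Type*} [CommRing B] (g : Matrix (Fin n) (Fin n) B) (v : Fin n → B) : Matrix (Fin n) (Fin n) B :=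
  Matrix.of fun i j => (g ^ (j : ℕ)).mulVec v i

lemma map_cyc {A B : Type*} [CommRing A] [CommRing B] (f : A →+* B) (g : Matrix (Fin n) (Fin n) A) (v : Fin n → A) :
    (cyc g v).map f = cyc (g.map f) (f ∘ v) := by
  ext i j
  simp only [cyc, Matrix.map_apply, Matrix.of_apply]
  rw [RingHom.map_mulVec, Matrix.map_pow]

lemma cyc_mulVec {B : Type*} [CommRing B] (g : Matrix (Fin n) (Fin n) B) (v c : Fin n → B) :
    (cyc g v).mulVec c = (∑ l : Fin n, c l • g ^ (l : ℕ)).mulVec v := by
  ext i
  rw [Matrix.sum_mulVec, Finset.sum_apply]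
  simp only [Matrix.mulVec, dotProduct, cyc, Matrix.of_apply, Matrix.smul_apply, smul_eq_mul]
  refine Finset.sum_congr rfl fun l _ => ?_
  rw [Finset.sum_mul]
  exact Finset.sum_congr rfl fun j _ => by ring

/-- Commuting matrices are polynomials in the matrix, up to the square of the determinant. -/
theorem det_smul_eq {B : Type*} [CommRing B] (g X : Matrix (Fin n) (Fin n) B) (v : Fin n → B)
    (hX : X * g = g * X) :
    (cyc g v).det • ((cyc g v).det • X -
      ∑ l : Fin n, (cyc g v).adjugate.mulVec (X.mulVec v) l • g ^ (l : ℕ)) = 0 := by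
  set C := cyc g v
  set Y := C.det • X - ∑ l : Fin n, C.adjugate.mulVec (X.mulVec v) l • g ^ (l : ℕ) with hY
  have hcomm : Commute g Y := by
    refine (((show Commute g X from hX.symm)).smul_right _).sub_right ?_
    exact Commute.sum_right _ _ _ fun l _ => ((Commute.refl g).pow_right _).smul_right _
  have hYv : Y.mulVec v = 0 := by
    rw [hY, Matrix.sub_mulVec, ← cyc_mulVec, Matrix.mulVec_mulVec, Matrix.mul_adjugate, Matrix.smul_mulVec,
      Matrix.smul_mulVec, Matrix.one_mulVec, sub_self]
  have hYC : Y * C = 0 := by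
    ext i j
    rw [Matrix.mul_apply]
    show ∑ l, Y i l * (g ^ (j : ℕ)).mulVec v l = 0
    have : (g ^ (j : ℕ)).mulVec (Y.mulVec v) = Y.mulVec ((g ^ (j : ℕ)).mulVec v) := by
      rw [Matrix.mulVec_mulVec, Matrix.mulVec_mulVec, (hcomm.pow_left _).eq]
    rw [hYv, Matrix.mulVec_zero] at this
    exact (congrFun this i).symm
  calc C.det • Y = Y * (C * C.adjugate) := by rw [Matrix.mul_adjugate, Matrix.mul_smul, mul_one]
    _ = 0 := by rw [← mul_assoc, hYC, zero_mul]

/-- A regular matrix over a field has a cyclic vector. -/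
theorem exists_det_ne_zero {K : Type u} [Field K] (g : Matrix (Fin n) (Fin n) K)
    (h : Module.finrank K (Subalgebra.centralizer K ({g} : Set (Matrix (Fin n) (Fin n) K))) = n) :
    ∃ v : Fin n → K, (cyc g v).det ≠ 0 := by
  classical
  let e : Matrix (Fin n) (Fin n) K ≃ₐ[K] Module.End K (Fin n → K) := Matrix.toLinAlgEquiv'
  have hmap : (Subalgebra.centralizer K ({g} : Set (Matrix (Fin n) (Fin n) K))).map e.toAlgHom =
      Subalgebra.centralizer K ({e g} : Set (Module.End K (Fin n → K))) := by
    ext x
    obtain ⟨y, rfl⟩ := e.surjective x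
    simp only [Subalgebra.mem_map, Subalgebra.mem_centralizer_iff, Set.mem_singleton_iff, forall_eq]
    constructor
    · rintro ⟨z, hz, hzy⟩
      obtain rfl : z = y := e.injective hzy
      rw [← map_mul e, ← map_mul e, hz]
    · intro hx
      exact ⟨y, e.injective (by rw [map_mul, map_mul]; exact hx), rfl⟩
  have h' : Module.finrank K (Subalgebra.centralizer K ({e g} : Set (Module.End K (Fin n → K)))) ≤
      Module.finrank K (Fin n → K) := by
    rw [← hmap, ← (Subalgebra.equivMapOfInjective _ e.toAlgHom e.injective).toLinearEquiv.finrank_eq, h,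
      Module.finrank_fin_fun]
  rcases Nat.eq_zero_or_pos n with hn0 | hn0
  · subst hn0
    exact ⟨0, by simp⟩
  obtain ⟨v, hv⟩ := exists_cyclic (e g) h'
  refine ⟨v, ?_⟩
  have hsurj : Function.Surjective (cyc g v).mulVec := by
    intro w
    obtain ⟨q, hq⟩ := hv w
    let r := q %ₘ g.charpoly
    refine ⟨fun l => r.coeff l, ?_⟩
    rw [cyc_mulVec, hq]
    have hr : Polynomial.aeval (e g) q = e (Polynomial.aeval g r) := by
      exact (Polynomial.aeval_algHom_apply e.toAlgHom g q).trans
        (congrArg e (Polynomial.aeval_modByMonic_eq_self_of_root (Matrix.aeval_self_charpoly g)).symm)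
    rw [hr]
    show _ = (Polynomial.aeval g r).mulVec v
    congr 1
    rw [Polynomial.aeval_eq_sum_range' (n := n)]
    · exact (Finset.sum_range (fun i => r.coeff i • g ^ i)).symm
    · rcases eq_or_ne r 0 with h0 | h0
      · rw [h0, Polynomial.natDegree_zero]
        omega
      · refine (Polynomial.natDegree_lt_iff_degree_lt h0).2 ?_
        have := Polynomial.degree_modByMonic_lt q g.charpoly_monic
        rwa [Matrix.charpoly_degree_eq_dim, Fintype.card_fin] at this
  exact ((Matrix.isUnit_iff_isUnit_det _).1 (Matrix.mulVec_surjective_iff_isUnit.1 hsurj)).ne_zero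

/-- The determinants generate the unit ideal. -/
theorem span_det_eq_top {A : Type u} [CommRing A] (g : Matrix (Fin n) (Fin n) A)
    (hreg : ∀ (K : Type u) [Field K] (φ : A →+* K),
      Module.finrank K (Subalgebra.centralizer K ({g.map φ} : Set (Matrix (Fin n) (Fin n) K))) = n) :
    Ideal.span (Set.range fun v : Fin n → A => (cyc g v).det) = ⊤ := by
  by_contra hne
  obtain ⟨M, hM, hle⟩ := Ideal.exists_le_maximal _ hne
  letI : Field (A ⧸ M) := Ideal.Quotient.field M
  obtain ⟨v, hv⟩ := exists_det_ne_zero _ (hreg (A ⧸ M) (Ideal.Quotient.mk M))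
  obtain ⟨w, rfl⟩ := Function.Surjective.comp_left (Ideal.Quotient.mk_surjective (I := M)) v
  refine hv ?_
  rw [← map_cyc, ← RingHom.mapMatrix_apply, ← RingHom.map_det, Ideal.Quotient.eq_zero_iff_mem]
  exact hle (Ideal.subset_span ⟨w, rfl⟩)

end Groth.Agent.RegMat28
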